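import Groth.Agent.UnramGULib.Global
import Groth.Agent.ProperConnLib.EtaleUnibranch
import Groth.Agent.SmoothCritLib.Criterion
import Groth.Agent.BirUnibLib.Local
import Mathlib

/-!
# Extending sections of unramified morphisms at geometrically unibranch points
-/

set_option autoImplicit false
set_option linter.style.haveILetI false
universe u

open CategoryTheory CategoryTheory.Limits AlgebraicGeometry TopologicalSpace

namespace SectUnibLib

/-- A flat, formally unramified local extension of a domain which is birational and generically a single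
point is trivial. -/
theorem surjective_algebraMap_of_birational {A B K : Type u} [CommRing A] [IsDomain A] [IsLocalRing A] [CommRing B]
    [IsLocalRing B] [Field K] [Algebra A K] [IsFractionRing A K] [Algebra A B] [IsLocalHom (algebraMap A B)]
    [Module.Flat A B] [Algebra.FormallyUnramified A B] [Algebra.EssFiniteType A B] (φ : B →ₐ[A] K)
    (huniq : ∀ Q : Ideal B, Q.IsPrime → Q.comap (algebraMap A B) = ⊥ → Q = RingHom.ker φ) :
    Function.Surjective (algebraMap A B) := by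
  classical
  let S := Algebra.algebraMapSubmonoid B (nonZeroDivisors A)
  let L := Localization S
  letI : Algebra (FractionRing A) L :=
    (IsLocalization.lift (M := nonZeroDivisors A) (g := algebraMap A L) fun s => by
      rw [IsScalarTower.algebraMap_apply A B L]
      exact IsLocalization.map_units L (⟨algebraMap A B s, ⟨s, s.2, rfl⟩⟩ : S)).toAlgebra
  haveI : IsScalarTower A (FractionRing A) L := IsScalarTower.of_algebraMap_eq fun x =>
    (IsLocalization.lift_eq _ x).symm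
  haveI : Algebra.FormallyUnramified B L := Algebra.FormallyUnramified.of_isLocalization S
  haveI : Algebra.FormallyUnramified A L := Algebra.FormallyUnramified.comp A B L
  haveI : Algebra.FormallyUnramified (FractionRing A) L := Algebra.FormallyUnramified.of_restrictScalars A (FractionRing A) L
  haveI : Algebra.EssFiniteType B L := Algebra.EssFiniteType.of_isLocalization L S
  haveI : Algebra.EssFiniteType A L := Algebra.EssFiniteType.comp A B L
  haveI : Algebra.EssFiniteType (FractionRing A) L := Algebra.EssFiniteType.of_comp A (FractionRing A) L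
  haveI : IsReduced L := Algebra.FormallyUnramified.isReduced_of_field (FractionRing A) L
  have hreg : ∀ s : A, s ≠ 0 → ∀ b : B, algebraMap A B s * b = 0 → b = 0 := fun s hs b hb => by
    have h : IsSMulRegular B (algebraMap A B s) :=
      IsSMulRegular.of_flat (IsSMulRegular.of_ne_zero hs)
    exact h.right_eq_zero_of_smul (by rwa [smul_eq_mul])
  intro b
  obtain ⟨a, s, hs, has⟩ := IsFractionRing.div_surjective (A := A) (φ b)
  have hs0 : s ≠ 0 := nonZeroDivisors.ne_zero hs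
  have hker : algebraMap A B s * b - algebraMap A B a ∈ RingHom.ker φ := by
    rw [RingHom.mem_ker, map_sub, map_mul, AlgHom.commutes, AlgHom.commutes, ← has,
      mul_div_cancel₀ _ ((map_ne_zero_iff _ (IsFractionRing.injective A K)).2 hs0), sub_self]
  have hzero : algebraMap A B s * b - algebraMap A B a = 0 := by
    have h1 : algebraMap B L (algebraMap A B s * b - algebraMap A B a) ∈ nilradical L := by
      rw [nilradical_eq_sInf, Submodule.mem_sInf]
      intro (P : Ideal L) (hP : P.IsPrime)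
      have hQ := huniq (P.comap (algebraMap B L)) inferInstance (by
        refine eq_bot_iff.2 fun c hc => ?_
        rw [Ideal.mem_bot]
        by_contra hc0
        refine hP.ne_top (Ideal.eq_top_of_isUnit_mem _ hc ?_)
        exact IsLocalization.map_units L (⟨algebraMap A B c, ⟨c, mem_nonZeroDivisors_of_ne_zero hc0, rfl⟩⟩ : S))
      exact hQ.ge hker
    rw [nilradical_eq_zero, Ideal.zero_eq_bot, Ideal.mem_bot, IsLocalization.map_eq_zero_iff S] at h1
    obtain ⟨⟨_, t, ht, rfl⟩, h2⟩ := h1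
    exact hreg t (nonZeroDivisors.ne_zero ht) _ h2
  haveI : Module.FaithfullyFlat A B := Module.FaithfullyFlat.of_flat_of_isLocalHom
  have ha : a ∈ ((Ideal.span {s}).map (algebraMap A B)).comap (algebraMap A B) := by
    rw [Ideal.mem_comap, Ideal.map_span, Set.image_singleton, Ideal.mem_span_singleton]
    exact ⟨b, (sub_eq_zero.1 hzero).symm⟩
  rw [Ideal.comap_map_eq_self_of_faithfullyFlat, Ideal.mem_span_singleton] at ha
  obtain ⟨c, rfl⟩ := ha
  refine ⟨c, (sub_eq_zero.1 (hreg s hs0 (b - algebraMap A B c) ?_)).symm⟩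
  rw [mul_sub, ← map_mul]
  exact hzero

theorem isOpenImmersion_of_section {X Y : Scheme.{u}} (f : X ⟶ Y) [LocallyOfFiniteType f] [FormallyUnramified f]
    (U : Y.Opens) (u : (U : Scheme.{u}) ⟶ X) (hu : u ≫ f = U.ι) : IsOpenImmersion u := by
  haveI : Etale (u ≫ f) := by rw [hu]; infer_instance
  haveI : Etale u := Etale.of_comp u f
  haveI : Mono u := mono_of_mono_fac hu
  exact IsOpenImmersion.of_flat_of_mono u

theorem specializes_of_genericPoint {Y : Scheme.{u}} [IsIntegral Y] {w : Y} (h : w ⤳ genericPoint Y) :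
    w = genericPoint Y :=
  (h.antisymm (genericPoint_specializes w)).eq

/-- Over an integral base, a section over a nonempty open subset extends to a neighbourhood of a
geometrically unibranch point whose fibre meets the closure of its image. -/
theorem exists_extension {X Y : Scheme.{u}} [IsIntegral Y] (f : X ⟶ Y) [LocallyOfFiniteType f]
    [FormallyUnramified f] [IsSeparated f] (U : Y.Opens) (hηU : genericPoint Y ∈ U)
    (u : (U : Scheme.{u}) ⟶ X) (hu : u ≫ f = U.ι) (z : X)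
    (hy : CAlg2.IsGeomUnibranch (Y.presheaf.stalk (f z))) (hξz : u ⟨genericPoint Y, hηU⟩ ⤳ z) :
    ∃ (V : Y.Opens) (v : (V : Scheme.{u}) ⟶ X), f z ∈ V ∧ v ≫ f = V.ι ∧
      Y.homOfLE (inf_le_left : U ⊓ V ≤ U) ≫ u = Y.homOfLE (inf_le_right : U ⊓ V ≤ V) ≫ v := by
  set η := genericPoint Y with hηdef
  set ξ := u ⟨η, hηU⟩ with hξdef
  have hfξ : f ξ = η := by rw [hξdef, ← Scheme.Hom.comp_apply, hu]; rfl
  obtain ⟨Ω, hzΩ, hΩ⟩ := UnramGULib.exists_etale_nbhd f z inferInstance hy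
    (UnramGULib.injective_stalkMap_of_generization f hξz hfξ)
    ⟨⊤, trivial, MorphismProperty.comp_mem @FormallyUnramified _ _ inferInstance inferInstance⟩ (Or.inl inferInstance)
  haveI := hΩ
  -- flatness of the stalk map at `z`
  have hflat : (f.stalkMap z).hom.Flat := by
    let g : X.presheaf.stalk z ⟶ (Ω : Scheme.{u}).presheaf.stalk ⟨z, hzΩ⟩ := Ω.ι.stalkMap ⟨z, hzΩ⟩
    haveI : IsIso g := inferInstanceAs (IsIso (Ω.ι.stalkMap ⟨z, hzΩ⟩))
    have h1 : (f.stalkMap z ≫ g).hom.Flat := by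
      have := Flat.stalkMap (Ω.ι ≫ f) ⟨z, hzΩ⟩
      rw [Scheme.Hom.stalkMap_comp] at this
      exact this
    have h3 := h1.comp (RingHom.Flat.of_bijective (ConcreteCategory.bijective_of_isIso (inv g)))
    rwa [← CommRingCat.hom_comp, Category.assoc, IsIso.hom_inv_id, Category.comp_id] at h3
  -- the map from the local ring of `z` to the function field
  let c : Spec Y.functionField ⟶ (U : Scheme.{u}) := U.fromSpecStalkOfMem η hηU
  let s : Spec Y.functionField ⟶ X := c ≫ u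
  have hsf : s ≫ f = Y.fromSpecStalk η := by
    rw [Category.assoc, hu, Scheme.Opens.fromSpecStalkOfMem_ι]
  have hsz : s (IsLocalRing.closedPoint _) ⤳ z := by
    have : c (IsLocalRing.closedPoint _) = ⟨η, hηU⟩ := U.ι.isOpenEmbedding.injective (by
      rw [← Scheme.Hom.comp_apply, Scheme.Opens.fromSpecStalkOfMem_ι, Scheme.fromSpecStalk_closedPoint]; rfl)
    show u (c (IsLocalRing.closedPoint _)) ⤳ z
    rw [this]; exact hξz
  let φ : X.presheaf.stalk z ⟶ Y.functionField :=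
    X.presheaf.stalkSpecializes hsz ≫ Scheme.stalkClosedPointTo s
  have hφs : Spec.map φ ≫ X.fromSpecStalk z = s := by
    rw [Spec.map_comp, Category.assoc, Scheme.SpecMap_stalkSpecializes_fromSpecStalk,
      Scheme.Spec_stalkClosedPointTo_fromSpecStalk]
  have hηy : η ⤳ f z := genericPoint_specializes _
  have hφf : f.stalkMap z ≫ φ = Y.presheaf.stalkSpecializes hηy := by
    apply Spec.map_injective
    rw [← cancel_mono (Y.fromSpecStalk (f z)), Scheme.SpecMap_stalkSpecializes_fromSpecStalk,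
      Spec.map_comp, Category.assoc, Scheme.SpecMap_stalkMap_fromSpecStalk, reassoc_of% hφs, hsf]
  -- bijectivity of the stalk map at `z`
  have hbij : Function.Bijective (f.stalkMap z) := by
    refine ⟨UnramGULib.injective_stalkMap_of_generization f hξz hfξ, ?_⟩
    let A := Y.presheaf.stalk (f z)
    let B := X.presheaf.stalk z
    letI : Algebra A B := (f.stalkMap z).hom.toAlgebra
    haveI : Module.Flat A B := hflat
    haveI : IsLocalHom (algebraMap A B) := f.toLRSHom.prop z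
    haveI : Algebra.FormallyUnramified A B := FormallyUnramified.stalkMap f z
    haveI : Algebra.EssFiniteType A B := LocallyOfFiniteType.stalkMap f z
    have hc : ∀ a : A, φ.hom (algebraMap A B a) = algebraMap A Y.functionField a := fun a => by
      show (f.stalkMap z ≫ φ) a = _
      rw [hφf]
      rfl
    let φA : B →ₐ[A] Y.functionField := { φ.hom with commutes' := hc }
    refine surjective_algebraMap_of_birational φA fun Q hQ hQ0 => ?_
    haveI := hQ
    haveI : (RingHom.ker φA).IsPrime := RingHom.ker_isPrime _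
    have hker0 : (RingHom.ker φA).comap (algebraMap A B) = ⊥ := by
      refine eq_bot_iff.2 fun a ha => ?_
      rw [Ideal.mem_comap, RingHom.mem_ker, AlgHom.commutes] at ha
      exact (map_eq_zero_iff _ (IsFractionRing.injective A Y.functionField)).1 ha
    have hpt : ∀ P : PrimeSpectrum B, P.asIdeal.comap (algebraMap A B) = ⊥ →
        X.fromSpecStalk z P ⤳ z ∧ f (X.fromSpecStalk z P) = η := fun P hP => by
      refine ⟨(X.range_fromSpecStalk (x := z)).le ⟨P, rfl⟩, ?_⟩
      refine (Inseparable.eq ?_)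
      refine Specializes.antisymm ?_ (genericPoint_specializes _)
      rw [← Scheme.Hom.comp_apply, ← Scheme.SpecMap_stalkMap_fromSpecStalk, Scheme.Hom.comp_apply]
      obtain ⟨p₀, hp₀⟩ : η ∈ Set.range (Y.fromSpecStalk (f z)) := by rw [Scheme.range_fromSpecStalk]; exact hηy
      rw [← hp₀]
      refine Specializes.map ?_ (Y.fromSpecStalk (f z)).continuous
      refine (PrimeSpectrum.le_iff_specializes _ _).1 ?_
      show P.asIdeal.comap (algebraMap A B) ≤ p₀.asIdeal
      rw [hP]; exact bot_le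
    obtain ⟨h1, h1'⟩ := hpt ⟨Q, hQ⟩ hQ0
    obtain ⟨h2, h2'⟩ := hpt ⟨RingHom.ker φA, inferInstance⟩ hker0
    have heq : (⟨_, h1.mem_open Ω.2 hzΩ⟩ : Ω) = ⟨_, h2.mem_open Ω.2 hzΩ⟩ :=
      ProperConnLib.eq_of_etale_unibranch (Ω.ι ≫ f) (x := ⟨z, hzΩ⟩) hy
        ((subtype_specializes_iff _ _).2 h1) ((subtype_specializes_iff _ _).2 h2) (h1'.trans h2'.symm)
        (fun w hw => by
          have h : (Ω.ι ≫ f) ⟨_, h1.mem_open Ω.2 hzΩ⟩ = η := h1'
          rw [h] at hw ⊢
          exact specializes_of_genericPoint hw)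
    have hemb : Function.Injective (X.fromSpecStalk z) := (Scheme.Hom.isEmbedding (X.fromSpecStalk z)).injective
    exact congrArg PrimeSpectrum.asIdeal (hemb (Subtype.mk.inj heq))
  haveI : IsIso (f.stalkMap z) := (ConcreteCategory.isIso_iff_bijective _).2 hbij
  -- spreading out
  let w : Spec (Y.presheaf.stalk (f z)) ⟶ X := Spec.map (inv (f.stalkMap z)) ≫ X.fromSpecStalk z
  have hw : w ≫ f = Y.fromSpecStalk (f z) ≫ 𝟙 Y := by
    rw [Category.comp_id, Category.assoc, ← Scheme.SpecMap_stalkMap_fromSpecStalk, ← Spec.map_comp_assoc,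
      IsIso.hom_inv_id, Spec.map_id, Category.id_comp]
  obtain ⟨V, hzV, v, hwv, hv⟩ := spread_out_of_isGermInjective' (𝟙 Y) f w hw
  rw [Category.comp_id] at hv
  refine ⟨V, v, hzV, hv, ?_⟩
  have hηV : η ∈ V := hηy.mem_open V.2 hzV
  let q : Spec Y.functionField ⟶ ((U ⊓ V : Y.Opens) : Scheme.{u}) := (U ⊓ V).fromSpecStalkOfMem η ⟨hηU, hηV⟩
  haveI : IsDominant q := ⟨by
    rw [DenseRange, dense_iff_inter_open]
    intro O hO hne
    obtain ⟨p, hp⟩ := hne
    refine ⟨⟨η, hηU, hηV⟩, ?_, IsLocalRing.closedPoint _, ?_⟩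
    · exact ((subtype_specializes_iff (x := (⟨η, hηU, hηV⟩ : (U ⊓ V : Y.Opens))) (y := p)).2
        (genericPoint_specializes _)).mem_open hO hp
    · exact (U ⊓ V).ι.isOpenEmbedding.injective (by
        rw [← Scheme.Hom.comp_apply, Scheme.Opens.fromSpecStalkOfMem_ι, Scheme.fromSpecStalk_closedPoint]; rfl)⟩
  haveI : IsReduced ((U ⊓ V : Y.Opens) : Scheme.{u}) := isReduced_of_isOpenImmersion (U ⊓ V).ι
  refine ext_of_isDominant_of_isSeparated f (by simp [hu, hv]) q ?_
  have hqU : q ≫ Y.homOfLE (inf_le_left : U ⊓ V ≤ U) = c := by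
    rw [← cancel_mono U.ι, Category.assoc, Y.homOfLE_ι, Scheme.Opens.fromSpecStalkOfMem_ι, Scheme.Opens.fromSpecStalkOfMem_ι]
  have hqV : q ≫ Y.homOfLE (inf_le_right : U ⊓ V ≤ V) = Spec.map (Y.presheaf.stalkSpecializes hηy) ≫ V.fromSpecStalkOfMem (f z) hzV := by
    rw [← cancel_mono V.ι, Category.assoc, Y.homOfLE_ι, Category.assoc, Scheme.Opens.fromSpecStalkOfMem_ι,
      Scheme.Opens.fromSpecStalkOfMem_ι, Scheme.SpecMap_stalkSpecializes_fromSpecStalk]
  rw [reassoc_of% hqU, reassoc_of% hqV, ← hwv]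
  show s = _
  rw [← hφs, ← Spec.map_comp_assoc, ← hφf, IsIso.inv_hom_id_assoc]

end SectUnibLib

namespace SectUnibLib

/-- A geometrically unibranch point of a reduced scheme with locally finitely many components has an
integral open neighbourhood. -/
theorem exists_integral_nbhd {Y : Scheme.{u}} [IsReduced Y]
    (hcomp : LocallyFinite (fun Z : ↥(irreducibleComponents ↥Y) => (Z : Set ↥Y)))
    (y : Y) (hy : CAlg2.IsGeomUnibranch (Y.presheaf.stalk y)) :
    ∃ V : Y.Opens, y ∈ V ∧ IsIntegral (V : Scheme.{u}) := by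
  classical
  obtain ⟨W, hW, hfin⟩ := hcomp y
  let bad : Set Y := ⋃ Z ∈ {Z : ↥(irreducibleComponents ↥Y) | ((Z : Set Y) ∩ W).Nonempty ∧ y ∉ (Z : Set Y)}, (Z : Set Y)
  have hbad : IsClosed bad :=
    Set.Finite.isClosed_biUnion (hfin.subset fun Z hZ => hZ.1) fun Z _ => isClosed_of_mem_irreducibleComponents _ Z.2
  let V : Y.Opens := ⟨interior W ∩ badᶜ, isOpen_interior.inter hbad.isOpen_compl⟩
  have hyV : y ∈ V := ⟨mem_interior_iff_mem_nhds.2 hW, fun h => by
    obtain ⟨Z, hZ, hyZ⟩ := Set.mem_iUnion₂.1 h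
    exact hZ.2 hyZ⟩
  let Zy := irreducibleComponent y
  have hsub : (V : Set Y) ⊆ Zy := by
    intro p hp
    have hcp := irreducibleComponent_mem_irreducibleComponents p
    have hy' : y ∈ irreducibleComponent p := by
      by_contra h
      exact hp.2 (Set.mem_iUnion₂.2 ⟨⟨_, hcp⟩, ⟨⟨p, mem_irreducibleComponent, interior_subset hp.1⟩, h⟩, mem_irreducibleComponent⟩)
    obtain ⟨η, hη⟩ := QuasiSober.sober (isIrreducible_irreducibleComponent (x := p)) isClosed_irreducibleComponent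
    obtain ⟨η', hη'⟩ := QuasiSober.sober (isIrreducible_irreducibleComponent (x := y)) isClosed_irreducibleComponent
    have e := SmoothCritLib.eq_of_unibranch y hy (η := η) (η' := η')
      (by rw [hη.def]; exact hcp) (by rw [hη'.def]; exact irreducibleComponent_mem_irreducibleComponents y)
      (hη.specializes hy') (hη'.specializes mem_irreducibleComponent)
    show p ∈ irreducibleComponent y
    rw [← hη'.def, ← e, hη.def]
    exact mem_irreducibleComponent
  haveI : IrreducibleSpace (V : Scheme.{u}) := by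
    have h1 : IsPreirreducible (V : Set Y) := IsPreirreducible.open_subset (isIrreducible_irreducibleComponent (x := y)).2 V.2 hsub
    haveI : Nonempty (V : Scheme.{u}) := ⟨⟨y, hyV⟩⟩
    haveI : PreirreducibleSpace (V : Scheme.{u}) := Subtype.preirreducibleSpace h1
    exact ⟨⟨⟨y, hyV⟩⟩⟩
  haveI : IsReduced (V : Scheme.{u}) := isReduced_of_isOpenImmersion V.ι
  exact ⟨V, hyV, isIntegral_of_irreducibleSpace_of_isReduced _⟩

theorem genericPoint_mem {Y : Scheme.{u}} (V : Y.Opens) [IsIntegral (V : Scheme.{u})] (U : Y.Opens)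
    (hU : Dense (U : Set Y)) : V.ι (genericPoint ↥(V : Scheme.{u})) ∈ U := by
  obtain ⟨p, hp, hpU⟩ := hU.inter_open_nonempty (V : Set Y) V.2
    ⟨_, (genericPoint ↥(V : Scheme.{u})).2⟩
  exact ((genericPoint_specializes (α := ↥(V : Scheme.{u})) ⟨p, hp⟩).map V.ι.continuous).mem_open U.2 hpU

/-- A section over a dense open subset extends to a neighbourhood of every geometrically unibranch point
whose fibre meets the closure of its image. -/
theorem exists_extension' {X Y : Scheme.{u}} [IsReduced Y]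
    (hcomp : LocallyFinite (fun Z : ↥(irreducibleComponents ↥Y) => (Z : Set ↥Y)))
    (f : X ⟶ Y) [LocallyOfFiniteType f] [FormallyUnramified f] [IsSeparated f]
    (U : Y.Opens) (hU : Dense (U : Set Y)) (u : (U : Scheme.{u}) ⟶ X) (hu : u ≫ f = U.ι) (z : X)
    (hy : CAlg2.IsGeomUnibranch (Y.presheaf.stalk (f z))) (hz : z ∈ closure (Set.range u)) :
    ∃ (V : Y.Opens) (v : (V : Scheme.{u}) ⟶ X), f z ∈ V ∧ v ≫ f = V.ι ∧
      Y.homOfLE (inf_le_left : U ⊓ V ≤ U) ≫ u = Y.homOfLE (inf_le_right : U ⊓ V ≤ V) ≫ v := by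
  obtain ⟨V₀, hzV₀, hV₀⟩ := exists_integral_nbhd hcomp (f z) hy
  haveI := hV₀
  haveI : FormallyUnramified (f ∣_ V₀) := MorphismProperty.of_isPullback (isPullback_morphismRestrict f V₀).flip ‹_›
  haveI : LocallyOfFiniteType (f ∣_ V₀) := MorphismProperty.of_isPullback (isPullback_morphismRestrict f V₀).flip ‹_›
  haveI : IsSeparated (f ∣_ V₀) := MorphismProperty.of_isPullback (isPullback_morphismRestrict f V₀).flip ‹_›
  have hcomm : ((V₀.ι ∣_ U) ≫ u) ≫ f = (V₀.ι ⁻¹ᵁ U).ι ≫ V₀.ι := by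
    rw [Category.assoc, hu, morphismRestrict_ι]
  let u₀ : ((V₀.ι ⁻¹ᵁ U : (V₀ : Scheme.{u}).Opens) : Scheme.{u}) ⟶ ((f ⁻¹ᵁ V₀ : X.Opens) : Scheme.{u}) :=
    IsOpenImmersion.lift (f ⁻¹ᵁ V₀).ι ((V₀.ι ∣_ U) ≫ u) (by
      rintro _ ⟨p, rfl⟩
      rw [Scheme.Opens.range_ι]
      show f (((V₀.ι ∣_ U) ≫ u) p) ∈ V₀
      rw [← Scheme.Hom.comp_apply, hcomm]
      exact ((V₀.ι ⁻¹ᵁ U).ι p).2)
  have hu₀ι : u₀ ≫ (f ⁻¹ᵁ V₀).ι = (V₀.ι ∣_ U) ≫ u := IsOpenImmersion.lift_fac _ _ _
  have hu₀ : u₀ ≫ (f ∣_ V₀) = (V₀.ι ⁻¹ᵁ U).ι := by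
    rw [← cancel_mono V₀.ι, Category.assoc, morphismRestrict_ι, reassoc_of% hu₀ι, ← hcomm, Category.assoc]
  have hη := genericPoint_mem V₀ U hU
  have hy₀ : CAlg2.IsGeomUnibranch ((V₀ : Scheme.{u}).presheaf.stalk ((f ∣_ V₀) ⟨z, hzV₀⟩)) := by
    have hpt : V₀.ι ((f ∣_ V₀) ⟨z, hzV₀⟩) = f z := by
      rw [← Scheme.Hom.comp_apply, morphismRestrict_ι]; rfl
    have e := (V₀.stalkIso ((f ∣_ V₀) ⟨z, hzV₀⟩)).commRingCatIsoToRingEquiv.symm
    refine BirUnibLib.isGeomUnibranch_of_ringEquiv e ?_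
    have : ∀ y' : Y, y' = f z → CAlg2.IsGeomUnibranch (Y.presheaf.stalk y') := by rintro _ rfl; exact hy
    exact this _ hpt
  have hsp : u₀ ⟨genericPoint ↥(V₀ : Scheme.{u}), hη⟩ ⤳ (⟨z, hzV₀⟩ : (f ⁻¹ᵁ V₀ : X.Opens)) := by
    rw [← (f ⁻¹ᵁ V₀).ι.isOpenEmbedding.isInducing.specializes_iff]
    show (u₀ ≫ (f ⁻¹ᵁ V₀).ι) _ ⤳ z
    rw [hu₀ι, Scheme.Hom.comp_apply, specializes_iff_mem_closure]
    refine closure_minimal ?_ isClosed_closure ((f ⁻¹ᵁ V₀).2.inter_closure ⟨hzV₀, hz⟩)
    rintro _ ⟨hp, ⟨q, rfl⟩⟩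
    have hqV : U.ι q ∈ V₀ := by rw [← hu, Scheme.Hom.comp_apply]; exact hp
    have h1 : ((V₀.ι ∣_ U) ⟨genericPoint ↥(V₀ : Scheme.{u}), hη⟩ : (U : Scheme.{u})) ⤳ q := by
      rw [← U.ι.isOpenEmbedding.isInducing.specializes_iff, ← Scheme.Hom.comp_apply, morphismRestrict_ι]
      exact (genericPoint_specializes (α := ↥(V₀ : Scheme.{u})) ⟨U.ι q, hqV⟩).map V₀.ι.continuous
    rw [← specializes_iff_mem_closure]
    exact h1.map u.continuous
  obtain ⟨V₁, v₀, hzV₁, hv₀, hag⟩ := exists_extension (f ∣_ V₀) (V₀.ι ⁻¹ᵁ U) hη u₀ hu₀ ⟨z, hzV₀⟩ hy₀ hsp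
  refine ⟨V₀.ι ''ᵁ V₁, (V₀.ι.isoImage V₁).inv ≫ v₀ ≫ (f ⁻¹ᵁ V₀).ι, ⟨_, hzV₁, ?_⟩, ?_, ?_⟩
  · show ((f ∣_ V₀) ≫ V₀.ι) ⟨z, hzV₀⟩ = f z
    rw [morphismRestrict_ι]; rfl
  · rw [Category.assoc, Category.assoc, ← morphismRestrict_ι, reassoc_of% hv₀, Iso.inv_comp_eq, Scheme.Hom.isoImage_hom_ι]
  · have hVV₀ : V₀.ι ''ᵁ V₁ ≤ V₀ := by rintro _ ⟨p, -, rfl⟩; exact p.2
    set W : Y.Opens := U ⊓ V₀.ι ''ᵁ V₁
    let m : (W : Scheme.{u}) ⟶ (V₀ : Scheme.{u}) := Y.homOfLE (inf_le_right.trans hVV₀)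
    let m₂ : (W : Scheme.{u}) ⟶ ((V₀.ι ⁻¹ᵁ U ⊓ V₁ : (V₀ : Scheme.{u}).Opens) : Scheme.{u}) :=
      IsOpenImmersion.lift (V₀.ι ⁻¹ᵁ U ⊓ V₁).ι m (by
        rintro _ ⟨p, rfl⟩
        rw [Scheme.Opens.range_ι]
        have h2 : V₀.ι (m p) = W.ι p := by rw [← Scheme.Hom.comp_apply, Y.homOfLE_ι]
        refine ⟨show V₀.ι (m p) ∈ U by rw [h2]; exact p.2.1, ?_⟩
        obtain ⟨q, hq, hqp⟩ := p.2.2
        replace hqp : V₀.ι q = V₀.ι (m p) := hqp.trans h2.symm
        exact V₀.ι.isOpenEmbedding.injective hqp ▸ hq)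
    have hm₂ : m₂ ≫ (V₀.ι ⁻¹ᵁ U ⊓ V₁).ι = m := IsOpenImmersion.lift_fac _ _ _
    have hL : m₂ ≫ (V₀ : Scheme.{u}).homOfLE inf_le_left ≫ (V₀.ι ∣_ U) = Y.homOfLE (inf_le_left : W ≤ U) := by
      rw [← cancel_mono U.ι, Category.assoc, Category.assoc, morphismRestrict_ι, Scheme.homOfLE_ι_assoc,
        reassoc_of% hm₂, Y.homOfLE_ι, Y.homOfLE_ι]
    have hR : m₂ ≫ (V₀ : Scheme.{u}).homOfLE inf_le_right = Y.homOfLE (inf_le_right : W ≤ V₀.ι ''ᵁ V₁) ≫ (V₀.ι.isoImage V₁).inv := by
      rw [← cancel_mono (V₁.ι ≫ V₀.ι), Category.assoc, Category.assoc, Scheme.homOfLE_ι_assoc, reassoc_of% hm₂, Y.homOfLE_ι,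
        ← Scheme.Hom.isoImage_hom_ι, Iso.inv_hom_id_assoc, Y.homOfLE_ι]
    rw [← reassoc_of% hR, ← hL, Category.assoc, Category.assoc, ← hu₀ι, reassoc_of% hag]

end SectUnibLib
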